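import Groth.Prelude.Def_BigSite
import Groth.Agent.Smooth28.Lift
import Groth.Agent.Ind91.Lift
import Mathlib.AlgebraicGeometry.Morphisms.Smooth
import Mathlib.AlgebraicGeometry.Morphisms.Etale
import Mathlib.AlgebraicGeometry.Morphisms.ClosedImmersion

/-!
Etale and smooth coverings lift along closed immersions.
-/

set_option autoImplicit false
universe u

open CategoryTheory CategoryTheory.Limits AlgebraicGeometry Opposite

namespace Groth.Agent.Big47

/-- Algebras with the property `Q` lift along surjective ring maps. -/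
def RingLifts (Q : ∀ {R S : Type u} [CommRing R] [CommRing S], (R →+* S) → Prop) : Prop :=
  ∀ (R R₀ B : Type u) [CommRing R] [CommRing R₀] [CommRing B] (φ : R →+* R₀) (ψ : R₀ →+* B),
    Function.Surjective φ → Q ψ →
    ∃ (A : Type u) (_ : CommRing A) (ι : R →+* A) (π : A →+* B),
      Q ι ∧ π.comp ι = ψ.comp φ ∧ Function.Surjective π ∧ RingHom.ker π = (RingHom.ker φ).map ι

theorem ringLifts_smooth : RingLifts.{u} @RingHom.Smooth := by
  intro R R₀ B _ _ _ φ ψ hφ hψ
  let _ := φ.toAlgebra; let _ := ψ.toAlgebra; let _ := (ψ.comp φ).toAlgebra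
  have : IsScalarTower R R₀ B := IsScalarTower.of_algebraMap_eq' rfl
  have : Algebra.Smooth R₀ B := RingHom.smooth_algebraMap.1 hψ
  obtain ⟨A, _, _, hA, π, hπ, hker⟩ := Smooth28.exists_smooth_lift (R := R) (R₀ := R₀) (A₀ := B) hφ
  exact ⟨A, _, algebraMap R A, π.toRingHom, RingHom.smooth_algebraMap.2 hA, π.comp_algebraMap, hπ, hker⟩

theorem ringLifts_etale : RingLifts.{u} @RingHom.Etale := by
  intro R R₀ B _ _ _ φ ψ hφ hψ
  let I := RingHom.ker φ
  let e : R ⧸ I ≃+* R₀ := RingHom.quotientKerEquivOfSurjective hφ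
  let _ := (ψ.comp e.toRingHom).toAlgebra; let _ := (ψ.comp φ).toAlgebra
  have : IsScalarTower R (R ⧸ I) B := IsScalarTower.of_algebraMap_eq' rfl
  have : Algebra.Etale (R ⧸ I) B := RingHom.etale_algebraMap.1 (RingHom.Etale.respectsIso.2 ψ e hψ)
  obtain ⟨A, _, _, π, hA, hπ, hker⟩ := Ind91.exists_etale_lift R I B
  exact ⟨A, _, algebraMap R A, π.toRingHom, RingHom.etale_algebraMap.2 hA, π.comp_algebraMap, hπ, hker⟩

variable {P : MorphismProperty Scheme.{u}}
  {Q : ∀ {R S : Type u} [CommRing R] [CommRing S], (R →+* S) → Prop} [HasRingHomProperty P Q]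
  [P.IsStableUnderBaseChange] [P.IsMultiplicative]

/-- A neighbourhood through which the restriction to the closed subscheme factors. -/
theorem exists_nhd (hQ : RingLifts.{u} Q) (hP : ∀ {A B : Scheme.{u}} (j : A ⟶ B) [IsOpenImmersion j], P j)
    {Z V W : Scheme.{u}} (q : Z ⟶ V) [IsClosedImmersion q] (w : W ⟶ Z) (hw : P w) (x : W) :
    ∃ (T : Scheme.{u}) (g : T ⟶ V), P g ∧ q.base (w.base x) ∈ Set.range g.base ∧
      ∃ a : pullback q g ⟶ W, a ≫ w = pullback.fst q g := by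
  obtain ⟨V₀, hV₀, hxV₀, -⟩ := exists_isAffineOpen_mem_and_subset (x := q.base (w.base x))
    (show _ ∈ (⊤ : V.Opens) from trivial)
  let Z₀ : Z.Opens := q ⁻¹ᵁ V₀
  have hZ₀ : IsAffineOpen Z₀ := hV₀.preimage q
  obtain ⟨W₀, hW₀, hxW₀, hW₀Z₀⟩ := exists_isAffineOpen_mem_and_subset (x := x)
    (show x ∈ w ⁻¹ᵁ Z₀ from hxV₀)
  let φ := q.appLE V₀ Z₀ le_rfl
  let ψ := w.appLE Z₀ W₀ hW₀Z₀
  have hφ : Function.Surjective φ.hom := by
    have := q.app_surjective V₀ hV₀
    intro y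
    obtain ⟨z, hz⟩ := this y
    refine ⟨z, ?_⟩
    rw [← hz]
    exact congr($(Scheme.Hom.app_eq_appLE (f := q) (U := V₀)).hom z).symm
  obtain ⟨A, _, ι, π, hι, hcomp, hπ, hker⟩ := hQ _ _ _ φ.hom ψ.hom hφ
    (HasRingHomProperty.appLE P w hw ⟨Z₀, hZ₀⟩ ⟨W₀, hW₀⟩ hW₀Z₀)
  let g : Spec (CommRingCat.of A) ⟶ V := Spec.map (CommRingCat.ofHom ι) ≫ hV₀.fromSpec
  have hg : P g := P.comp_mem _ _ ((HasRingHomProperty.Spec_iff (P := P)).2 hι) (hP _)
  let πc : CommRingCat.of A ⟶ Γ(W, W₀) := CommRingCat.ofHom π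
  have hιπ : CommRingCat.ofHom ι ≫ πc = φ ≫ ψ := CommRingCat.hom_ext hcomp
  have hWfac : Spec.map πc ≫ g = hW₀.fromSpec ≫ w ≫ q := by
    change Spec.map πc ≫ Spec.map (CommRingCat.ofHom ι) ≫ hV₀.fromSpec = _
    rw [← Spec.map_comp_assoc, hιπ, Spec.map_comp, Category.assoc,
      IsAffineOpen.SpecMap_appLE_fromSpec q hV₀ hZ₀ le_rfl,
      ← Category.assoc, IsAffineOpen.SpecMap_appLE_fromSpec w hZ₀ hW₀ hW₀Z₀, Category.assoc]
  refine ⟨_, g, hg, ?_, ?_⟩
  · obtain ⟨b, hb⟩ : x ∈ Set.range hW₀.fromSpec.base := by rw [hW₀.range_fromSpec]; exact hxW₀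
    refine ⟨(Spec.map πc).base b, ?_⟩
    change ((Spec.map πc) ≫ g).base b = _
    rw [hWfac, ← hb]
    rfl
  · let P' := pullback q g
    have : IsAffine P' := isAffine_of_isAffineHom (pullback.snd q g)
    let α : CommRingCat.of A ⟶ Γ(P', ⊤) := Spec.preimage (P'.isoSpec.inv ≫ pullback.snd q g)
    have hα : Spec.map α = P'.isoSpec.inv ≫ pullback.snd q g := Spec.map_preimage _
    have hr : Set.range (P'.isoSpec.inv ≫ pullback.fst q g).base ⊆ Set.range hZ₀.fromSpec.base := by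
      rw [hZ₀.range_fromSpec]
      rintro _ ⟨y, rfl⟩
      change q.base ((pullback.fst q g).base _) ∈ V₀
      change (pullback.fst q g ≫ q).base _ ∈ V₀
      rw [pullback.condition]
      change hV₀.fromSpec.base _ ∈ (V₀ : Set V)
      rw [← hV₀.range_fromSpec]
      exact Set.mem_range_self _
    let β : Γ(Z, Z₀) ⟶ Γ(P', ⊤) :=
      Spec.preimage (IsOpenImmersion.lift hZ₀.fromSpec (P'.isoSpec.inv ≫ pullback.fst q g) hr)
    have hβ : Spec.map β ≫ hZ₀.fromSpec = P'.isoSpec.inv ≫ pullback.fst q g := by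
      rw [Spec.map_preimage, IsOpenImmersion.lift_fac]
    have hαβ : CommRingCat.ofHom ι ≫ α = φ ≫ β := by
      apply Spec.map_injective
      rw [← cancel_mono hV₀.fromSpec, Spec.map_comp, Spec.map_comp, Category.assoc, Category.assoc,
        IsAffineOpen.SpecMap_appLE_fromSpec q hV₀ hZ₀ le_rfl, hα, Category.assoc, ← Category.assoc (Spec.map β),
        hβ, Category.assoc, pullback.condition]
    have hle : RingHom.ker π ≤ RingHom.ker α.hom := by
      rw [hker, Ideal.map_le_iff_le_comap]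
      intro r hr
      change (CommRingCat.ofHom ι ≫ α).hom r = 0
      rw [hαβ]
      change β.hom (φ.hom r) = 0
      rw [RingHom.mem_ker.1 hr, map_zero]
    let γ : Γ(W, W₀) ⟶ Γ(P', ⊤) := CommRingCat.ofHom (π.liftOfSurjective hπ ⟨α.hom, hle⟩)
    have hγ : πc ≫ γ = α := CommRingCat.hom_ext (RingHom.liftOfRightInverse_comp π _ _ _)
    refine ⟨P'.isoSpec.hom ≫ Spec.map γ ≫ hW₀.fromSpec, ?_⟩
    rw [← cancel_mono q]
    simp only [Category.assoc]
    rw [← hWfac, ← Spec.map_comp_assoc, hγ, hα, pullback.condition]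
    simp

/-- Base change along a closed immersion is almost cocontinuous. -/
theorem isAlmostCocontinuous_of_lifts (hQ : RingLifts.{u} Q)
    (hP : ∀ {A B : Scheme.{u}} (j : A ⟶ B) [IsOpenImmersion j], P j)
    {X Y : Scheme.{u}} (f : X ⟶ Y) [IsClosedImmersion f] :
    BigSite.IsAlmostCocontinuous (Over.pullback f) (QuotSh.J (Scheme.precoverage P) Y)
      (QuotSh.J (Scheme.precoverage P) X) := by
  intro U R hR
  let L := QuotSh.J (Scheme.precoverage P) X
  let F := Over.pullback f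
  let Z := pullback U.hom f
  let q : Z ⟶ U.left := pullback.fst U.hom f
  obtain ⟨𝒰, h𝒰⟩ := (Scheme.mem_grothendieckTopology_iff (P := P)).1 ((GrothendieckTopology.mem_over_iff _ _).1 hR)
  have hex : ∀ v : U.left, ∃ (T : Scheme.{u}) (g : T ⟶ U.left), P g ∧ v ∈ Set.range g.base ∧
      ((⊥ : Sieve (F.obj (Over.mk (g ≫ U.hom)))) ∈ L _ ∨
        R (F.map (Over.homMk g : Over.mk (g ≫ U.hom) ⟶ U))) := by
    intro v
    by_cases hv : v ∈ Set.range q.base
    · obtain ⟨z, rfl⟩ := hv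
      obtain ⟨x, hx⟩ := Scheme.Cover.covers 𝒰 (show ↥(F.obj U).left from z)
      let w : 𝒰.X (Scheme.Cover.idx 𝒰 (show ↥(F.obj U).left from z)) ⟶ Z :=
        𝒰.f (Scheme.Cover.idx 𝒰 (show ↥(F.obj U).left from z))
      obtain ⟨T, g, hg, hv, a, ha⟩ := exists_nhd hQ hP q w (𝒰.map_prop _) x
      refine ⟨T, g, hg, by rw [show w.base x = z from hx] at hv; exact hv, Or.inr ?_⟩
      let mw : Over.mk (w ≫ pullback.snd U.hom f) ⟶ F.obj U :=
        Over.homMk (U := Over.mk (w ≫ pullback.snd U.hom f)) (V := F.obj U)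
          (show (Over.mk (w ≫ pullback.snd U.hom f)).left ⟶ (F.obj U).left from w) rfl
      have hw : R mw := (Sieve.overEquiv_iff R _).1 (h𝒰 _ _ ⟨_⟩)
      let p : pullback (g ≫ U.hom) f ⟶ Z := (F.map (Over.homMk g : Over.mk (g ≫ U.hom) ⟶ U)).left
      have hp1 : p ≫ q = pullback.fst (g ≫ U.hom) f ≫ g := pullback.lift_fst _ _ _
      have hp2 : p ≫ pullback.snd U.hom f = pullback.snd (g ≫ U.hom) f := pullback.lift_snd _ _ _
      let b : pullback (g ≫ U.hom) f ⟶ pullback q g := pullback.lift p (pullback.fst _ _) hp1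
      have hb : b ≫ a ≫ w = p := by rw [ha, pullback.lift_fst]
      let k : F.obj (Over.mk (g ≫ U.hom)) ⟶ Over.mk (w ≫ pullback.snd U.hom f) :=
        Over.homMk (b ≫ a) (by
          change (b ≫ a) ≫ w ≫ pullback.snd U.hom f = pullback.snd (g ≫ U.hom) f
          rw [← hp2, ← hb]
          simp only [Category.assoc])
      have hk : F.map (Over.homMk g : Over.mk (g ≫ U.hom) ⟶ U) = k ≫ mw := by
        apply Over.OverMorphism.ext
        exact hb.symm.trans (Category.assoc _ _ _).symm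
      rw [hk]
      exact R.downward_closed hw k
    · let O : U.left.Opens := ⟨(Set.range q.base)ᶜ, q.isClosedEmbedding.isClosed_range.isOpen_compl⟩
      refine ⟨_, O.ι, hP _, ⟨⟨v, hv⟩, rfl⟩, Or.inl ?_⟩
      have : IsEmpty ↥(F.obj (Over.mk (O.ι ≫ U.hom))).left := ⟨fun y => by
        let y' : ↥(pullback (O.ι ≫ U.hom) f) := y
        let p : pullback (O.ι ≫ U.hom) f ⟶ Z := (F.map (Over.homMk O.ι : Over.mk (O.ι ≫ U.hom) ⟶ U)).left
        have hp1 : p ≫ q = pullback.fst (O.ι ≫ U.hom) f ≫ O.ι := pullback.lift_fst _ _ _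
        exact ((pullback.fst (O.ι ≫ U.hom) f).base y').2 ⟨p.base y', congr($(hp1).base y')⟩⟩
      rw [GrothendieckTopology.mem_over_iff]
      refine (Scheme.precoverage P).toGrothendieck.superset_covering bot_le
        (Scheme.bot_mem_grothendieckTopology (P := P) _)
  choose T g hg hmem hgood using hex
  refine ⟨Sieve.ofArrows (fun v => Over.mk (g v ≫ U.hom)) (fun v => Over.homMk (g v)), ?_, ?_⟩
  · rw [GrothendieckTopology.mem_over_iff, Sieve.overEquiv_ofArrows]
    exact Precoverage.generate_mem_toGrothendieck ((Scheme.ofArrows_mem_precoverage_iff P).2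
      ⟨fun v => ⟨v, hmem v⟩, hg⟩)
  · intro V h hh
    rw [Sieve.mem_ofArrows_iff] at hh
    obtain ⟨v, k, rfl⟩ := hh
    rcases hgood v with hb | hr
    · exact Or.inl (by simpa using L.pullback_stable (F.map k) hb)
    · rw [F.map_comp]
      exact Or.inr (R.downward_closed hr _)

end Groth.Agent.Big47
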