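import Groth.Agent.Mod48.GermLocal
import Groth.Agent.Mod48.GermSites
import Groth.Prelude.Def_BigSite

/-!
The big etale site of a scheme as a site receiving the small etale site with lifting of geometric points.
-/

universe u

open CategoryTheory CategoryTheory.Limits AlgebraicGeometry Opposite

namespace Groth.Agent.Big47

set_option backward.isDefEq.respectTransparency.types false

instance : Scheme.etalePrecoverage.{u}.HasIsos :=
  inferInstanceAs ((Scheme.precoverage @Etale).HasIsos)

instance : Scheme.etalePrecoverage.{u}.IsStableUnderComposition :=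
  inferInstanceAs ((Scheme.precoverage @Etale).IsStableUnderComposition)

instance : Scheme.etalePrecoverage.{u}.IsStableUnderBaseChange :=
  inferInstanceAs ((Scheme.precoverage @Etale).IsStableUnderBaseChange)

variable {X : Scheme.{u}}

/-- An arrow of a covering sieve of the big etale site through every point. -/
theorem exists_etale_of_mem {V : Over X} {S : Sieve V} (hS : S ∈ QuotSh.J Scheme.etalePrecoverage X V)
    (x : V.left) :
    ∃ (W : Over X) (g : W ⟶ V) (w : W.left), S.arrows g ∧ Etale g.left ∧ g.left w = x := by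
  obtain ⟨R, hR, hle⟩ := Precoverage.mem_toGrothendieck_iff_of_isStableUnderComposition.1
    ((GrothendieckTopology.mem_over_iff _ _).1 hS)
  obtain ⟨ι, Y, f, rfl⟩ := R.exists_eq_ofArrows
  obtain ⟨hsur, hP⟩ := (Scheme.ofArrows_mem_precoverage_iff _).1 hR
  obtain ⟨i, y, hy⟩ := hsur x
  exact ⟨Over.mk (f i ≫ V.hom), Over.homMk (f i), y,
    (Sieve.overEquiv_iff S (f i)).1 (hle _ _ ⟨i⟩), hP i, hy⟩

/-- The big etale site. -/
noncomputable def bigEtGSite (X : Scheme.{u}) :
    Mod48.GSite X (QuotSh.J Scheme.etalePrecoverage X) (EtFppf.a X) where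
  U := 𝟭 _
  faithful := inferInstance
  c := { app := fun _ => 𝟙 _, naturality := fun _ _ _ => (Category.comp_id _).trans (Category.id_comp _).symm }
  bij V W := ⟨fun a b h => (Category.comp_id _).symm.trans (h.trans (Category.comp_id _)),
    fun q => ⟨q, Category.comp_id _⟩⟩
  lift {V S} hS k _ _ v := by
    obtain ⟨W, g, w, hg, he, hw⟩ := exists_etale_of_mem hS (v default)
    obtain ⟨l, hl, -⟩ := Scheme.exists_fac_of_etale_of_isSepClosed g.left v w hw
    exact ⟨W, g, l, hg, hl⟩
  pb {V₁ V₂ V} g₁ g₂ :=
    ⟨Over.mk (pullback.fst g₁.left g₂.left ≫ V₁.hom), Over.homMk (pullback.fst g₁.left g₂.left) rfl,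
      Over.homMk (pullback.snd g₁.left g₂.left) (by
        show pullback.snd g₁.left g₂.left ≫ V₂.hom = pullback.fst g₁.left g₂.left ≫ V₁.hom
        rw [← Over.w g₁, ← Over.w g₂, pullback.condition_assoc]),
      IsPullback.of_hasPullback g₁.left g₂.left⟩
  quot {V S} hS T hT := by
    refine isOpen_iff_forall_mem_open.2 fun x hx => ?_
    obtain ⟨W, g, w, hg, he, hw⟩ := exists_etale_of_mem hS x
    refine ⟨g.left '' (g.left ⁻¹' T), Set.image_preimage_subset _ _,
      g.left.isOpenMap _ (hT W g hg), w, ?_, hw⟩
    show g.left w ∈ T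
    rw [hw]; exact hx

instance (X : Scheme.{u}) : IsIso (bigEtGSite X).c := by
  have : ∀ U, IsIso ((bigEtGSite X).c.app U) := fun U => inferInstanceAs (IsIso (𝟙 _))
  exact NatIso.isIso_of_isIso_app _

/-- Open subschemes and etale maps cover in the big etale site. -/
theorem mem_J_of_etale {V : Over X} (S : Sieve V)
    (h : ∀ x : V.left, ∃ (W : Over X) (g : W ⟶ V) (w : W.left), S g ∧ Etale g.left ∧ g.left w = x) :
    S ∈ QuotSh.J Scheme.etalePrecoverage X V := by
  rw [GrothendieckTopology.mem_over_iff]
  choose W g w hg he hw using h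
  have hmem : Presieve.ofArrows (fun x : V.left => (W x).left) (fun x => (g x).left) ∈
      Scheme.etalePrecoverage V.left :=
    (Scheme.ofArrows_mem_precoverage_iff _).2 ⟨fun x => ⟨x, w x, hw x⟩, fun x => he x⟩
  refine GrothendieckTopology.superset_covering _ ?_ (Precoverage.generate_mem_toGrothendieck hmem)
  rw [Sieve.generate_le_iff]
  rintro Z q ⟨x⟩
  exact (Sieve.overEquiv_iff S (g x).left).2 (by
    have e : (Over.homMk (g x).left : Over.mk ((g x).left ≫ V.hom) ⟶ V) =
        (Over.isoMk (Iso.refl _) (by exact (Category.id_comp _).trans (Over.w (g x)).symm) :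
          Over.mk ((g x).left ≫ V.hom) ≅ W x).hom ≫ g x := by
      apply Over.OverMorphism.ext
      exact (Category.id_comp _).symm
    rw [e]
    exact S.downward_closed (hg x) _)

end Groth.Agent.Big47
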