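import Groth.Agent.Big47.EtaleGSite

/-!
Inverse images of small etale sheaves to the big etale site are sheaves for the fpqc topology.
-/

universe u

open CategoryTheory CategoryTheory.Limits AlgebraicGeometry Opposite

namespace Groth.Agent.Big47

set_option backward.isDefEq.respectTransparency.types false

open Unr55 (EtSh.germ EtSh.Pt EtSh.exists_germ_eq)
open Mod48 (GPt img exists_gpt)

variable {S : Scheme.{u}}

/-- A covering sieve of the fpqc topology reaches every point. -/
theorem exists_point_fpqc {V : Over S} {R : Sieve V} (hR : R ∈ QuotSh.J Scheme.fpqcPrecoverage S V)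
    (x : V.left) :
    ∃ (W : Over S) (g : W ⟶ V) (w : W.left), R.arrows g ∧ g.left w = x := by
  obtain ⟨R', hR', hle⟩ := Precoverage.mem_toGrothendieck_iff_of_isStableUnderComposition.1
    ((GrothendieckTopology.mem_over_iff _ _).1 hR)
  obtain ⟨ι, Y, f, rfl⟩ := R'.exists_eq_ofArrows
  obtain ⟨hsur, -⟩ := (Scheme.ofArrows_mem_precoverage_iff _).1 hR'.2
  obtain ⟨i, y, hy⟩ := hsur x
  exact ⟨Over.mk (f i ≫ V.hom), Over.homMk (f i), y,
    (Sieve.overEquiv_iff R (f i)).1 (hle _ _ ⟨i⟩), hy⟩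

/-- Openness is local for the fpqc topology. -/
theorem isOpen_of_mem_fpqc {V : Over S} {R : Sieve V} (hR : R ∈ QuotSh.J Scheme.fpqcPrecoverage S V)
    (T : Set V.left) (hT : ∀ (W : Over S) (g : W ⟶ V), R.arrows g → IsOpen (g.left ⁻¹' T)) :
    IsOpen T := by
  obtain ⟨R', hR', hle⟩ := Precoverage.mem_toGrothendieck_iff_of_isStableUnderComposition.1
    ((GrothendieckTopology.mem_over_iff _ _).1 hR)
  obtain ⟨ι, Y, f, rfl⟩ := R'.exists_eq_ofArrows
  obtain ⟨-, hfl⟩ := (Scheme.ofArrows_mem_precoverage_iff _).1 hR'.2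
  let E : PreZeroHypercover V.left := PreZeroHypercover.mk ι Y f
  have : QuasiCompactCover E := (Scheme.presieve₀_mem_qcPrecoverage_iff (E := E)).1 hR'.1
  have : QuasiCompactCover (QuasiCompactCover.ulift E) := inferInstance
  refine Mod48.isOpen_of_qcCover (QuasiCompactCover.ulift E) (fun i => ?_) T fun i => ?_
  · exact hfl _
  · exact hT _ (Over.homMk (f _) : Over.mk (f _ ≫ V.hom) ⟶ V)
      ((Sieve.overEquiv_iff R (f _)).1 (hle _ _ ⟨_⟩))

variable (F : EtCoh.Ab S)

/-- The inverse image on the big etale site. -/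
noncomputable abbrev piPre : (Over S)ᵒᵖ ⥤ AddCommGrpCat.{u + 1} :=
  ((BigSite.piEtPull Scheme.etalePrecoverage S).obj F).obj

lemma locusSet_map {V W : Over S} (g : W ⟶ V) (t : (piPre F).obj (op V)) :
    (bigEtGSite S).locusSet F ((piPre F).map g.op t) =
      g.left ⁻¹' (bigEtGSite S).locusSet F t := by
  ext w
  obtain ⟨η, v, hv⟩ := exists_gpt ((bigEtGSite S).U.obj W) w
  refine Iff.trans ?_ ((bigEtGSite S).mem_locusSet_iff F t η (v ≫ (bigEtGSite S).U.map g)).symm |>.trans ?_
  · rw [← hv]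
    exact ((bigEtGSite S).mem_locusSet_iff F _ η v).trans (Iff.of_eq (congrArg (· = 0) ((bigEtGSite S).val_map F g η v t)))
  · exact Iff.of_eq (congrArg (fun z => g.left z ∈ (bigEtGSite S).locusSet F t) hv)

lemma eq_zero_of_fpqc {V : Over S} {R : Sieve V} (hR : R ∈ QuotSh.J Scheme.fpqcPrecoverage S V)
    (t : (piPre F).obj (op V))
    (ht : ∀ (W : Over S) (g : W ⟶ V), R.arrows g → (piPre F).map g.op t = 0) : t = 0 := by
  refine (bigEtGSite S).eq_zero_of_val F t fun η v => ?_
  obtain ⟨W, g, w, hg, hw⟩ := exists_point_fpqc hR (img v)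
  obtain ⟨ζ, u, hu⟩ := exists_gpt ((bigEtGSite S).U.obj W) w
  rw [← (bigEtGSite S).mem_locusSet_iff]
  have h0 : img u ∈ (bigEtGSite S).locusSet F ((piPre F).map g.op t) := by
    rw [(bigEtGSite S).mem_locusSet_iff, ht W g hg]
    exact map_zero _
  rw [locusSet_map, hu] at h0
  exact hw ▸ h0

lemma ext_fpqc {V : Over S} {R : Sieve V} (hR : R ∈ QuotSh.J Scheme.fpqcPrecoverage S V)
    (t t' : (piPre F).obj (op V))
    (ht : ∀ (W : Over S) (g : W ⟶ V), R.arrows g → (piPre F).map g.op t = (piPre F).map g.op t') :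
    t = t' :=
  sub_eq_zero.1 (eq_zero_of_fpqc F hR _ fun W g hg => by rw [map_sub, ht W g hg, sub_self])

/-- The inverse image of a small etale sheaf is an fpqc sheaf. -/
theorem isSheaf_fpqc_piEtPull :
    Presheaf.IsSheaf (QuotSh.J Scheme.fpqcPrecoverage S) (piPre F) := by
  rw [Presheaf.isSheaf_iff_isSheaf_forget _ _ (forget AddCommGrpCat.{u + 1}),
    isSheaf_iff_isSheaf_of_type]
  intro V R hR x hx
  let P := piPre F
  have hcomp : ∀ {W' W : Over S} (g : W ⟶ V) (hg : R g) (k : W' ⟶ W),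
      P.map k.op (x g hg) = x (k ≫ g) (R.downward_closed hg k) := by
    intro W' W g hg k
    have h := hx k (𝟙 W') hg (R.downward_closed hg k) (Category.id_comp _).symm
    refine h.trans ?_
    simp
  have hsh := (isSheaf_iff_isSheaf_of_type _ _).1
    (Presheaf.isSheaf_comp_of_isSheaf (QuotSh.J Scheme.etalePrecoverage S) P
      (forget AddCommGrpCat.{u + 1}) ((BigSite.piEtPull Scheme.etalePrecoverage S).obj F).property)
  let R' : Sieve V :=
    { arrows := fun W' g => ∃ σ : P.obj (op W'), ∀ (W'' : Over S) (k : W'' ⟶ W') (h : R (k ≫ g)),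
        P.map k.op σ = x (k ≫ g) h
      downward_closed := fun {W₁ W₂ g} ⟨σ, hσ⟩ l => ⟨P.map l.op σ, fun W'' k h => by
        rw [← ConcreteCategory.comp_apply, ← Functor.map_comp, ← op_comp]
        have h' : R ((k ≫ l) ≫ g) := by rwa [Category.assoc]
        exact (hσ W'' (k ≫ l) h').trans (by congr 1)⟩ }
  have hR' : R' ∈ QuotSh.J Scheme.etalePrecoverage S V := mem_J_of_etale R' fun x₀ => by
    obtain ⟨W, g, w, hg, hw⟩ := exists_point_fpqc hR x₀
    obtain ⟨η, u, hu⟩ := exists_gpt ((bigEtGSite S).U.obj W) w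
    obtain ⟨U₀, u₀, s, hs⟩ := EtSh.exists_germ_eq η.hom F ((bigEtGSite S).val F η u (x g hg))
    have : Etale U₀.hom := U₀.prop
    let ul : Spec (CommRingCat.of η.k) ⟶ W.left := u.left
    let u₀l : Spec (CommRingCat.of η.k) ⟶ U₀.left := u₀.left
    have huv : (ul ≫ g.left) ≫ V.hom = u₀l ≫ U₀.hom := by
      rw [Category.assoc, Over.w g]
      exact (Over.w u).trans (Over.w u₀).symm
    let W₁ : Over S := Over.mk (pullback.fst V.hom U₀.hom ≫ V.hom)
    let q : W₁ ⟶ V := Over.homMk (pullback.fst V.hom U₀.hom) rfl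
    let π : W₁ ⟶ (EtFppf.a S).obj U₀ := Over.homMk (pullback.snd V.hom U₀.hom) pullback.condition.symm
    let pl : Spec (CommRingCat.of η.k) ⟶ W₁.left := pullback.lift (ul ≫ g.left) u₀l huv
    have hpl : pl ≫ W₁.hom = η.hom := by
      show pullback.lift (ul ≫ g.left) u₀l huv ≫ pullback.fst V.hom U₀.hom ≫ V.hom = η.hom
      rw [pullback.lift_fst_assoc, Category.assoc, Over.w g]
      exact Over.w u
    let v₁ : (bigEtGSite S).Pts η W₁ := Over.homMk pl hpl
    let σ : P.obj (op W₁) := P.map π.op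
      (Mod48.GSite.etaSect (QuotSh.J Scheme.etalePrecoverage S) (EtFppf.a S) F s)
    let R₁ : Sieve W₁ := R.pullback q
    have hR₁ : R₁ ∈ QuotSh.J Scheme.fpqcPrecoverage S W₁ :=
      GrothendieckTopology.pullback_stable _ q hR
    let d : ∀ (W' : Over S) (k : W' ⟶ W₁) (hk : R₁ k), P.obj (op W') :=
      fun W' k hk => P.map k.op σ - x (k ≫ q) hk
    have hd : ∀ {W'' W' : Over S} (l : W'' ⟶ W') (k : W' ⟶ W₁) (hk : R₁ k),
        P.map l.op (d W' k hk) = d W'' (l ≫ k) (R₁.downward_closed hk l) := by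
      intro W'' W' l k hk
      show P.map l.op (P.map k.op σ - x (k ≫ q) hk) = P.map (l ≫ k).op σ - x ((l ≫ k) ≫ q) _
      rw [map_sub, hcomp (k ≫ q) hk l, op_comp, Functor.map_comp, ConcreteCategory.comp_apply]
      congr 1
      first | done | exact (Category.assoc _ _ _).symm
    have hd' : ∀ {W' : Over S} (k k' : W' ⟶ W₁) (hk : R₁ k) (hk' : R₁ k'), k = k' →
        d W' k hk = d W' k' hk' := by
      intro W' k k' hk hk' e
      subst e
      rfl
    let T : Set W₁.left := {z | ∃ (W' : Over S) (k : W' ⟶ W₁) (hk : R₁ k) (w' : W'.left),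
      k.left w' = z ∧ w' ∈ (bigEtGSite S).locusSet F (d W' k hk)}
    have hpre : ∀ (W' : Over S) (k : W' ⟶ W₁) (hk : R₁ k),
        k.left ⁻¹' T = (bigEtGSite S).locusSet F (d W' k hk) := by
      intro W' k hk
      refine Set.Subset.antisymm ?_ fun w' hw' => ⟨W', k, hk, w', rfl, hw'⟩
      rintro z ⟨W'', k', hk', w', e, hw'⟩
      obtain ⟨P', a, b, hP'⟩ := (bigEtGSite S).pb k k'
      obtain ⟨c, hc₁, hc₂⟩ := Scheme.Pullback.exists_preimage_pullback (f := k.left) (g := k'.left)
        z w' e.symm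
      have hab : a ≫ k = b ≫ k' := Over.OverMorphism.ext hP'.w
      let ψ := hP'.isoPullback
      let pc : ((bigEtGSite S).U.obj P').left := ψ.inv c
      have ha : a.left (ψ.inv c) = z := by
        refine Eq.trans (Scheme.Hom.comp_apply ψ.inv a.left c).symm ?_
        exact (congrArg (fun r : pullback k.left k'.left ⟶ W'.left => r c)
          hP'.isoPullback_inv_fst).trans hc₁
      have hb : b.left (ψ.inv c) = w' := by
        refine Eq.trans (Scheme.Hom.comp_apply ψ.inv b.left c).symm ?_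
        exact (congrArg (fun r : pullback k.left k'.left ⟶ W''.left => r c)
          hP'.isoPullback_inv_snd).trans hc₂
      have hb' : b.left (show P'.left from pc) ∈ (bigEtGSite S).locusSet F (d W'' k' hk') :=
        hb.symm ▸ hw'
      have h1 : pc ∈ (bigEtGSite S).locusSet F (P.map b.op (d W'' k' hk')) :=
        (congrArg (fun A : Set P'.left => (show P'.left from pc) ∈ A) (locusSet_map F b _)).mpr hb'
      rw [hd b k' hk', ← hd' (a ≫ k) (b ≫ k') (R₁.downward_closed hk a) _ hab, ← hd a k hk,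
        locusSet_map] at h1
      exact ha ▸ h1
    have hT : IsOpen T := isOpen_of_mem_fpqc hR₁ T fun W' k hk => by
      rw [hpre W' k hk]
      exact (bigEtGSite S).isOpen_locusSet F _
    obtain ⟨W', a, b, hab⟩ := (bigEtGSite S).pb q g
    have hab' : a ≫ q = b ≫ g := Over.OverMorphism.ext hab.w
    have ha : R₁ a := by
      show R (a ≫ q)
      rw [hab']
      exact R.downward_closed hg b
    have hplq : pl ≫ q.left = ul ≫ g.left := pullback.lift_fst _ _ _
    let p : (bigEtGSite S).Pts η W' := Over.homMk (hab.lift pl ul hplq) (by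
      show hab.lift pl ul hplq ≫ W'.hom = η.hom
      rw [← Over.w a]
      exact (hab.lift_fst_assoc pl ul hplq W₁.hom).trans hpl)
    have hpa : p ≫ (bigEtGSite S).U.map a = v₁ :=
      Over.OverMorphism.ext (hab.lift_fst _ _ _)
    have hpb : p ≫ (bigEtGSite S).U.map b = u :=
      Over.OverMorphism.ext (hab.lift_snd _ _ _)
    have hx₁ : img v₁ ∈ T := by
      refine ⟨W', a, ha, img p, congrArg (fun r : (bigEtGSite S).Pts η W₁ => img r) hpa, ?_⟩
      refine ((bigEtGSite S).mem_locusSet_iff F (d W' a ha) η p).2 ?_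
      refine (map_sub _ _ _).trans (sub_eq_zero.2 ?_)
      have e1 : x (a ≫ q) ha = P.map b.op (x g hg) := by
        rw [hcomp g hg b]
        congr 1
      rw [e1, (bigEtGSite S).val_map F a η p, (bigEtGSite S).val_map F b η p, hpa, hpb,
        (bigEtGSite S).val_rep]
      refine Eq.trans ?_ hs
      congr 1
      congr 1
      apply Over.OverMorphism.ext
      exact (pullback.lift_snd_assoc _ _ _ _).trans (Category.comp_id _)
    let O : W₁.left.Opens := ⟨T, hT⟩
    let o : Over.mk (O.ι ≫ W₁.hom) ⟶ W₁ := Over.homMk O.ι rfl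
    refine ⟨Over.mk (O.ι ≫ W₁.hom), o ≫ q, (⟨img v₁, hx₁⟩ : O.toScheme),
      ⟨P.map o.op σ, fun W'' k h => ?_⟩, ?_, ?_⟩
    · have hk : R₁ (k ≫ o) := by
        show R ((k ≫ o) ≫ q)
        rwa [Category.assoc]
      have h0 : d W'' (k ≫ o) hk = 0 := by
        refine (bigEtGSite S).eq_zero_of_val F _ fun ζ r => ?_
        rw [← (bigEtGSite S).mem_locusSet_iff, ← hpre]
        show (k ≫ o).left (img r) ∈ T
        rw [Over.comp_left, Scheme.Hom.comp_apply]
        exact (k.left (img r) : O.toScheme).2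
      rw [← ConcreteCategory.comp_apply, ← Functor.map_comp, ← op_comp]
      refine (sub_eq_zero.1 h0).trans ?_
      congr 1
      first | done | exact Category.assoc _ _ _
    · show Etale (O.ι ≫ pullback.fst V.hom U₀.hom)
      infer_instance
    · show pullback.fst V.hom U₀.hom (pl default) = x₀
      rw [← Scheme.Hom.comp_apply]
      refine (congrArg (fun r : Spec (CommRingCat.of η.k) ⟶ V.left => r default) hplq).trans ?_
      rw [← hw, ← hu]
      rfl
  choose σ hσ using fun W' (g : W' ⟶ V) (hg : R' g) => hg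
  have hsep : ∀ {W' : Over S} (g : W' ⟶ V) (hg : R' g) (σ' : P.obj (op W')),
      (∀ (W'' : Over S) (k : W'' ⟶ W') (h : R (k ≫ g)), P.map k.op σ' = x (k ≫ g) h) →
      σ W' g hg = σ' := fun g hg σ' h' =>
    ext_fpqc F (GrothendieckTopology.pullback_stable _ g hR) _ _ fun W'' k hk =>
      (hσ _ g hg W'' k hk).trans (h' W'' k hk).symm
  have hfam : Presieve.FamilyOfElements.Compatible
      (P := P ⋙ forget AddCommGrpCat.{u + 1}) (R := R'.arrows) σ := by
    intro W₁ W₂ W g₁ g₂ f₁ f₂ h₁ h₂ e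
    show P.map g₁.op (σ W₁ f₁ h₁) = P.map g₂.op (σ W₂ f₂ h₂)
    refine ext_fpqc F (GrothendieckTopology.pullback_stable _ (g₁ ≫ f₁) hR) _ _ fun W'' k hk => ?_
    have hk₁ : R ((k ≫ g₁) ≫ f₁) := by rw [Category.assoc]; exact hk
    have hk₂ : R ((k ≫ g₂) ≫ f₂) := by rw [Category.assoc, ← e]; exact hk
    rw [← ConcreteCategory.comp_apply, ← ConcreteCategory.comp_apply, ← Functor.map_comp,
      ← Functor.map_comp, ← op_comp, ← op_comp, hσ _ f₁ h₁ W'' (k ≫ g₁) hk₁,
      hσ _ f₂ h₂ W'' (k ≫ g₂) hk₂]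
    congr 1
    rw [Category.assoc, Category.assoc, e]
  obtain ⟨t, ht, -⟩ := hsh R' hR' σ hfam
  refine ⟨t, fun W g hg => ?_, fun t' ht' => ?_⟩
  · refine (hsh _ (GrothendieckTopology.pullback_stable _ g hR')).isSeparatedFor.ext
      fun W' k hk => ?_
    show P.map k.op (P.map g.op t) = P.map k.op (x g hg)
    rw [← ConcreteCategory.comp_apply, ← Functor.map_comp, ← op_comp]
    refine (ht (k ≫ g) hk).trans ?_
    refine (hsep (k ≫ g) hk (P.map k.op (x g hg)) fun W'' l h => ?_)
    rw [← ConcreteCategory.comp_apply, ← Functor.map_comp, ← op_comp, hcomp g hg (l ≫ k)]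
    congr 1
    first | done | exact Category.assoc _ _ _
  · refine ext_fpqc F hR _ _ fun W g hg => (ht' g hg).trans ?_
    refine Eq.symm ?_
    refine (hsh _ (GrothendieckTopology.pullback_stable _ g hR')).isSeparatedFor.ext
      fun W' k hk => ?_
    show P.map k.op (P.map g.op t) = P.map k.op (x g hg)
    rw [← ConcreteCategory.comp_apply, ← Functor.map_comp, ← op_comp]
    refine (ht (k ≫ g) hk).trans ?_
    refine (hsep (k ≫ g) hk (P.map k.op (x g hg)) fun W'' l h => ?_)
    rw [← ConcreteCategory.comp_apply, ← Functor.map_comp, ← op_comp, hcomp g hg (l ≫ k)]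
    congr 1
    first | done | exact Category.assoc _ _ _

end Groth.Agent.Big47
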