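import Groth.Prelude.Def_BigSite
import Groth.Agent.Six47.PullExact
import Groth.Agent.SiteCoh.ExtCompare
import Mathlib.CategoryTheory.Sites.CoverLifting
import Mathlib.Algebra.Category.Grp.FilteredColimits

/-!
Cohomology of the small Zariski site is cohomology of the big Zariski site.
-/

set_option autoImplicit false
set_option backward.isDefEq.respectTransparency.types false
universe u

open CategoryTheory CategoryTheory.Limits AlgebraicGeometry Opposite TopologicalSpace
open CategoryTheory.Abelian

namespace Groth.Agent.Big47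

/-- The Zariski precoverage. -/
abbrev Kzar : Precoverage Scheme.{u} := Scheme.zariskiPrecoverage

variable (S : Scheme.{u})

/-- The inclusion of the opens is cocontinuous for the big Zariski topology. -/
theorem isCocontinuous_zarIncl :
    (BigSite.zarIncl S).IsCocontinuous (Opens.grothendieckTopology S) (QuotSh.J Kzar S) where
  cover_lift {U R} hR := by
    intro x hx
    rw [GrothendieckTopology.mem_over_iff] at hR
    obtain ⟨𝒰, h𝒰⟩ := (Scheme.mem_grothendieckTopology_iff (P := @IsOpenImmersion)).1 hR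
    let z : ↥((BigSite.zarIncl S).obj U).left := (⟨x, hx⟩ : ↥U)
    let g : 𝒰.X (Scheme.Cover.idx 𝒰 z) ⟶ (U : Scheme.{u}) := 𝒰.f (Scheme.Cover.idx 𝒰 z)
    have hg : IsOpenImmersion g := 𝒰.map_prop _
    let m : Over.mk (g ≫ U.ι) ⟶ (BigSite.zarIncl S).obj U := Over.homMk (U := Over.mk (g ≫ U.ι))
      (V := (BigSite.zarIncl S).obj U) (show (Over.mk (g ≫ U.ι)).left ⟶ ((BigSite.zarIncl S).obj U).left from g) rfl
    have hR' : R m := (Sieve.overEquiv_iff R _).1 (h𝒰 _ _ ⟨_⟩)
    let W : S.Opens := U.ι ''ᵁ g.opensRange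
    have hW : W ≤ U := U.ι_image_le _
    refine ⟨W, homOfLE hW, ?_, ?_⟩
    · change R ((BigSite.zarIncl S).map (homOfLE hW))
      have hr : Set.range (g ≫ U.ι).base = Set.range W.ι.base := by
        rw [Scheme.Opens.range_ι, Scheme.Hom.comp_base, TopCat.coe_comp, Set.range_comp]
        rfl
      let h := IsOpenImmersion.lift (g ≫ U.ι) W.ι hr.ge
      have hfac : h ≫ g ≫ U.ι = W.ι := IsOpenImmersion.lift_fac _ _ _
      let k : (BigSite.zarIncl S).obj W ⟶ Over.mk (g ≫ U.ι) :=
        Over.homMk h hfac
      have e : (BigSite.zarIncl S).map (homOfLE hW) = k ≫ m := by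
        apply Over.OverMorphism.ext
        change S.homOfLE hW = h ≫ g
        rw [← cancel_mono U.ι, Category.assoc, hfac]
        exact S.homOfLE_ι hW
      rw [e]
      exact R.downward_closed hR' k
    · obtain ⟨y, hy⟩ := Scheme.Cover.covers 𝒰 z
      exact ⟨_, ⟨y, hy⟩, rfl⟩

/-- Filtered colimits indexed by small categories commute with finite limits. -/
theorem preservesFiniteLimits_colim_ab (T : Type u) [Category.{u} T] [IsFiltered T] :
    PreservesFiniteLimits (colim : (T ⥤ AddCommGrpCat.{u + 1}) ⥤ AddCommGrpCat.{u + 1}) := by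
  let e : T ≌ AsSmall.{u + 1} T := AsSmall.equiv
  have : IsFiltered (AsSmall.{u + 1} T) := IsFiltered.of_equivalence e
  have : PreservesFiniteLimits
      ((Functor.whiskeringLeft (AsSmall.{u + 1} T) T AddCommGrpCat.{u + 1}).obj e.inverse ⋙ colim) := by
    apply preservesFiniteLimits_of_preservesFiniteLimitsOfSize.{u + 1}
    intro J _ _
    have := PreservesFilteredColimitsOfSize.preserves_filtered_colimits
      (F := (forget AddCommGrpCat.{u + 1} : AddCommGrpCat.{u + 1} ⥤ Type (u + 1))) (AsSmall.{u + 1} T)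
    exact comp_preservesLimitsOfShape _ _
  exact preservesFiniteLimits_of_natIso (Functor.Final.colimIso e.inverse)

/-- An object over `S` with image in an open maps to it. -/
noncomputable def toZar {U : S.Opens} (Z : Over S) (h : Set.range Z.hom.base ⊆ (U : Set S)) :
    Z ⟶ (BigSite.zarIncl S).obj U :=
  have h' : Set.range Z.hom.base ⊆ Set.range (U.ι).base := by rw [Scheme.Opens.range_ι]; exact h
  let a : Z.left ⟶ (U : Scheme.{u}) := IsOpenImmersion.lift U.ι Z.hom h'
  have ha : a ≫ U.ι = Z.hom := IsOpenImmersion.lift_fac _ _ _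
  Over.homMk a ha

lemma range_hom_subset {U : S.Opens} {Z : Over S} (a : Z ⟶ (BigSite.zarIncl S).obj U) :
    Set.range Z.hom.base ⊆ (U : Set S) := by
  have e : a.left ≫ U.ι = Z.hom := Over.w a
  rw [← e, Scheme.Hom.comp_base, TopCat.coe_comp]
  exact (Set.range_comp_subset_range _ _).trans (Scheme.Opens.range_ι U).subset

lemma hom_zar_subsingleton {U : S.Opens} {Z : Over S} (a b : Z ⟶ (BigSite.zarIncl S).obj U) : a = b := by
  apply Over.OverMorphism.ext
  have h : a.left ≫ U.ι = b.left ≫ U.ι := (Over.w a).trans (Over.w b).symm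
  exact (cancel_mono U.ι).1 h

instance preservesFiniteLimits_zarIncl : PreservesFiniteLimits (BigSite.zarIncl S) := by
  refine ⟨fun J _ _ => ⟨fun {D} => ⟨fun {c} hc => ⟨?_⟩⟩⟩⟩
  have hle : ∀ (s : Cone (D ⋙ BigSite.zarIncl S)), Set.range s.pt.hom.base ⊆ (c.pt : Set S) := by
    intro s x hx
    let N : S.Opens := ⟨⋂ j, (D.obj j : Set S), isOpen_iInter_of_finite fun j => (D.obj j).2⟩
    have hN : N ≤ c.pt := leOfHom (hc.lift
      ⟨N, { app := fun j => homOfLE fun y hy => Set.mem_iInter.1 hy j
            naturality := fun _ _ _ => Subsingleton.elim _ _ }⟩)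
    exact hN (Set.mem_iInter.2 fun j => range_hom_subset S (s.π.app j) hx)
  exact
    { lift := fun s => toZar S s.pt (hle s)
      fac := fun s j => hom_zar_subsingleton S _ _
      uniq := fun s m _ => hom_zar_subsingleton S _ _ }

variable [BigSite.ZarCont Kzar S]

theorem preservesFiniteLimits_piZarPull : PreservesFiniteLimits (BigSite.piZarPull Kzar S) := by
  have : RepresentablyFlat (BigSite.zarIncl S) := flat_of_preservesFiniteLimits _
  have : PreservesFiniteLimits ((BigSite.zarIncl S).op.lan : (S.Opensᵒᵖ ⥤ AddCommGrpCat.{u + 1}) ⥤ _) := by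
    apply preservesFiniteLimits_of_preservesFiniteLimitsOfSize.{u + 1}
    intro J _ _
    apply preservesLimitsOfShape_of_evaluation
      ((BigSite.zarIncl S).op.lan : (S.Opensᵒᵖ ⥤ AddCommGrpCat.{u + 1}) ⥤ _) J
    intro K
    have : IsFiltered (CostructuredArrow (BigSite.zarIncl S).op K) :=
      IsFiltered.of_equivalence (structuredArrowOpEquivalence (BigSite.zarIncl S) (unop K))
    have := preservesFiniteLimits_colim_ab (CostructuredArrow (BigSite.zarIncl S).op K)
    exact preservesLimitsOfShape_of_natIso (Six47.lanEvalIso (E := AddCommGrpCat.{u + 1}) (BigSite.zarIncl S).op K).symm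
  exact Functor.sheafPullbackConstruction.preservesFiniteLimits _ _ _ _

theorem preservesFiniteColimits_resZar : PreservesFiniteColimits (BigSite.resZar Kzar S) :=
  have := isCocontinuous_zarIncl S
  ⟨fun _ _ _ => ((BigSite.zarIncl S).sheafAdjunctionCocontinuous AddCommGrpCat.{u + 1}
    (Opens.grothendieckTopology S) (QuotSh.J Kzar S)).leftAdjoint_preservesColimits.preservesColimitsOfShape⟩

theorem nonempty_H_resZar_iso (F : BigSite.Ab Kzar S) (p : ℕ) :
    Nonempty (EtZar.H ((BigSite.resZar Kzar S).obj F) p ≃+ BigSite.H Kzar S F p) := by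
  have := preservesFiniteColimits_resZar S
  have := preservesFiniteLimits_piZarPull S
  have : PreservesFiniteLimits (BigSite.resZar Kzar S) :=
    ⟨fun _ _ _ => (BigSite.piZarAdj Kzar S).rightAdjoint_preservesLimits.preservesLimitsOfShape⟩
  have : EnoughInjectives (BigSite.Ab Kzar S) := IsGrothendieckAbelian.enoughInjectives.{u + 1}
  let T : S.Opens := ⊤
  have hT : IsTerminal T := IsTerminal.ofUniqueHom (fun U => homOfLE le_top) fun _ _ => Subsingleton.elim _ _
  have hT' : IsTerminal ((BigSite.zarIncl S).obj T) := IsTerminal.isTerminalObj _ _ hT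
  let c : constantSheaf (Opens.grothendieckTopology S) AddCommGrpCat.{u + 1} ⋙ BigSite.piZarPull Kzar S ≅
      constantSheaf (QuotSh.J Kzar S) AddCommGrpCat.{u + 1} :=
    ((constantSheafAdj (Opens.grothendieckTopology S) AddCommGrpCat.{u + 1} hT).comp
      (BigSite.piZarAdj Kzar S)).leftAdjointUniq
      (constantSheafAdj (QuotSh.J Kzar S) AddCommGrpCat.{u + 1} hT')
  let Z : AddCommGrpCat.{u + 1} := AddCommGrpCat.of (ULift.{u + 1} ℤ)
  let η : (constantSheaf (Opens.grothendieckTopology S) AddCommGrpCat.{u + 1}).obj Z ⟶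
      (BigSite.resZar Kzar S).obj ((constantSheaf (QuotSh.J Kzar S) AddCommGrpCat.{u + 1}).obj Z) :=
    (BigSite.piZarAdj Kzar S).homEquiv _ _ (c.hom.app Z)
  have hb : Function.Bijective (SiteCoh.extTransfer (BigSite.resZar Kzar S) η F p) := by
    refine SiteCoh.extTransfer_bijective _ _ (fun G => ?_) (fun J hJ m => ?_) p F
    · have e : (fun φ : _ ⟶ G => η ≫ (BigSite.resZar Kzar S).map φ) =
          ((BigSite.piZarAdj Kzar S).homEquiv _ _) ∘ (fun φ => c.hom.app Z ≫ φ) :=
        funext fun φ => ((BigSite.piZarAdj Kzar S).homEquiv_naturality_right _ φ).symm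
      rw [e]
      exact (Equiv.bijective _).comp ((isIso_iff_coyoneda_map_bijective _).1 inferInstance G)
    · have : Injective ((BigSite.resZar Kzar S).obj J) :=
        Injective.injective_of_adjoint (BigSite.piZarAdj Kzar S) J
      exact Ext.subsingleton_of_injective _ _ m
  exact ⟨(AddEquiv.ofBijective _ hb).symm⟩

end Groth.Agent.Big47
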